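import Groth.Prelude.Def_AlgGrp
import Groth.Agent.GrpQuotLib.FieldQuot
import Groth.Agent.GrpQuotLib.KerGrp
import Groth.Agent.GrpSchLib.Component
import Groth.Agent.S3280
import Groth.Agent.S3036
import Groth.Agent.S4362

/-!
# A schematically dominant homomorphism from an algebraic group to a limit of algebraic groups
-/

set_option autoImplicit false
set_option backward.isDefEq.respectTransparency false
set_option linter.style.haveILetI false

universe u

open CategoryTheory CategoryTheory.Limits MonoidalCategory CartesianMonoidalCategory MonObj GrpObj AlgebraicGeometry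

noncomputable section

namespace Groth.Agent.LimDomLib

variable {k : Type u} [Field k] {G : Over (Spec (CommRingCat.of k))} [GrpObj G]

/-- A homomorphism out of an algebraic group killed on the kernel of `q` is injective modulo it. -/
theorem mono_of_kernel {Q D N : Over (Spec (CommRingCat.of k))} [GrpObj Q] [GrpObj D]
    (q : G ⟶ Q) [IsMonHom q] [Flat q.left] [Surjective q.left] [LocallyOfFinitePresentation q.left]
    (w : Q ⟶ D) [IsMonHom w] (n : N ⟶ G) (hn : n ≫ q = 1)
    (hlift : ∀ {T : Over (Spec (CommRingCat.of k))} (g : T ⟶ G), g ≫ q ≫ w = 1 → ∃ z : T ⟶ N, z ≫ n = g) :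
    Mono w := by
  refine ⟨fun {T} a b hab => ?_⟩
  have hx : (a * b⁻¹) ≫ w = 1 := by
    rw [MonObj.mul_comp, hab, show b⁻¹ ≫ w = (b ≫ w)⁻¹ from (IsMonHom.monoidHom w T).map_inv b, mul_inv_cancel]
  rw [← mul_inv_eq_one]
  let P := pullback q (a * b⁻¹)
  have hsq : IsPullback (pullback.fst q (a * b⁻¹)) (pullback.snd q (a * b⁻¹)) q (a * b⁻¹) :=
    IsPullback.of_hasPullback _ _
  have h1 : (pullback.fst q (a * b⁻¹)) ≫ q ≫ w = 1 := by
    rw [pullback.condition_assoc, hx, MonObj.comp_one]
  obtain ⟨z, hz⟩ := hlift _ h1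
  have h2 : pullback.snd q (a * b⁻¹) ≫ (a * b⁻¹) = 1 := by
    rw [← pullback.condition, ← hz, Category.assoc, hn, MonObj.comp_one]
  have hl : IsPullback (pullback.fst q (a * b⁻¹)).left (pullback.snd q (a * b⁻¹)).left q.left (a * b⁻¹).left :=
    hsq.map (Over.forget _)
  haveI : Flat (pullback.snd q (a * b⁻¹)).left := MorphismProperty.of_isPullback hl inferInstance
  haveI : Surjective (pullback.snd q (a * b⁻¹)).left := MorphismProperty.of_isPullback hl inferInstance
  haveI : LocallyOfFinitePresentation (pullback.snd q (a * b⁻¹)).left :=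
    MorphismProperty.of_isPullback hl inferInstance
  haveI : Epi (pullback.snd q (a * b⁻¹)).left := inferInstance
  haveI : Epi (pullback.snd q (a * b⁻¹)) := (Over.forget _).epi_of_epi_map (inferInstanceAs (Epi (pullback.snd q (a * b⁻¹)).left))
  rw [← cancel_epi (pullback.snd q (a * b⁻¹)), h2, MonObj.comp_one]

variable [LocallyOfFiniteType G.hom] [QuasiCompact G.hom]
  {J : Type u} [SmallCategory J] [IsCofiltered J] (D : J ⥤ Over (Spec (CommRingCat.of k)))
  [∀ j, GrpObj (D.obj j)] [∀ (j j' : J) (φ : j ⟶ j'), IsMonHom (D.map φ)]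

theorem dominant_to_limit (hD : ∀ j, LocallyOfFiniteType (D.obj j).hom ∧ QuasiCompact (D.obj j).hom)
    (c : Cone D) (hc : IsLimit c) [GrpObj c.pt] [∀ j, IsMonHom (M := c.pt) (N := D.obj j) (c.π.app j)]
    (u : G ⟶ c.pt) [IsMonHom u] (hdom : u.left.ker = ⊥) :
    Flat u.left ∧ Surjective u.left ∧ LocallyOfFiniteType c.pt.hom ∧ QuasiCompact c.pt.hom := by
  classical
  haveI : IsLocallyNoetherian G.left := LocallyOfFiniteType.isLocallyNoetherian G.hom
  haveI : CompactSpace G.left := QuasiCompact.compactSpace_of_compactSpace G.hom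
  haveI : AlgebraicGeometry.IsNoetherian G.left := ⟨⟩
  haveI := Groth.Agent.S4362.result G.left
  haveI : ∀ j, IsClosedImmersion η[D.obj j].left := fun j => GrpSchLib.isClosedImmersion_unit
  haveI : ∀ j, Mono η[D.obj j] := fun j => SplitMono.mono ⟨toUnit _, toUnit_unique _ _⟩
  let f : ∀ j, G ⟶ D.obj j := fun j => u ≫ c.π.app j
  haveI hfm : ∀ j, IsMonHom (f j) := fun j => inferInstanceAs (IsMonHom (u ≫ c.π.app j))
  have hfn : ∀ {j j' : J} (φ : j ⟶ j'), f j ≫ D.map φ = f j' := fun {j j'} φ => by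
    show (u ≫ c.π.app j) ≫ D.map φ = u ≫ c.π.app j'
    rw [Category.assoc, c.w φ]
  let N : J → Over (Spec (CommRingCat.of k)) := fun j => pullback (f j) η[D.obj j]
  let n : ∀ j, N j ⟶ G := fun j => pullback.fst (f j) η[D.obj j]
  have hN : ∀ j, IsPullback (n j) (toUnit (N j)) (f j) η[D.obj j] := fun j => by
    rw [toUnit_unique (toUnit (N j)) (pullback.snd (f j) η[D.obj j])]
    exact IsPullback.of_hasPullback _ _
  haveI hncl : ∀ j, IsClosedImmersion (n j).left := fun j =>
    MorphismProperty.of_isPullback (P := @IsClosedImmersion) ((hN j).map (Over.forget _)).flip GrpSchLib.isClosedImmersion_unit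
  have hnf : ∀ j, n j ≫ f j = 1 := fun j => by rw [(hN j).w, Hom.one_def]
  have hlift : ∀ j {T : Over (Spec (CommRingCat.of k))} (g : T ⟶ G), g ≫ f j = 1 → ∃ z : T ⟶ N j, z ≫ n j = g :=
    fun j T g hg => ⟨(hN j).lift g (toUnit _) (by rw [hg, Hom.one_def]), (hN j).lift_fst _ _ _⟩
  have hle : ∀ {j j' : J} (φ : j ⟶ j'), (n j').left.ker ≤ (n j).left.ker := fun {j j'} φ => by
    obtain ⟨z, hz⟩ := hlift j' (n j) (by rw [← hfn φ, ← Category.assoc, hnf, MonObj.one_comp])
    rw [← hz, Over.comp_left]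
    exact Scheme.Hom.le_ker_comp _ _
  haveI : Nonempty J := IsCofiltered.nonempty
  obtain ⟨_, ⟨j₀, rfl⟩, hmax⟩ := (wellFounded_gt (α := G.left.IdealSheafData)).has_min
    (Set.range fun j => (n j).left.ker) (Set.range_nonempty _)
  have hkill : ∀ j, n j₀ ≫ f j = 1 := fun j => by
    obtain ⟨j', φ, ψ, -⟩ := IsCofilteredOrEmpty.cone_objs j₀ j
    have heq : (n j').left.ker ≤ (n j₀).left.ker := by
      have h := hle φ
      exact (eq_of_le_of_not_lt h (hmax _ ⟨j', rfl⟩)).ge
    let l : N j₀ ⟶ N j' := Over.homMk (IsClosedImmersion.lift (n j').left (n j₀).left heq) (by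
      rw [← Over.w (n j'), ← Category.assoc, IsClosedImmersion.lift_fac, Over.w (n j₀)])
    have hl : l ≫ n j' = n j₀ := Over.OverMorphism.ext (IsClosedImmersion.lift_fac _ _ _)
    rw [← hl, Category.assoc, ← hfn ψ, reassoc_of% (hnf j'), MonObj.one_comp, MonObj.comp_one]
  -- the quotient
  obtain ⟨gN, hgN⟩ := GrpQuotLib.exists_grpObj_kernel (f j₀)
  letI : GrpObj (N j₀) := gN
  haveI : IsMonHom (n j₀) := hgN
  have hnormal : AlgGrp.IsNormalHom (n j₀) := fun T g m => by
    obtain ⟨z, hz⟩ := hlift j₀ (g * (m ≫ n j₀) * g⁻¹) (by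
      rw [MonObj.mul_comp, MonObj.mul_comp, Category.assoc, hnf, MonObj.comp_one, _root_.mul_one,
        show g⁻¹ ≫ f j₀ = (g ≫ f j₀)⁻¹ from (IsMonHom.monoidHom (f j₀) T).map_inv g, mul_inv_cancel])
    exact ⟨z, hz.symm⟩
  obtain ⟨Q, gQ, q, hqm, hQs, hQl, hQq, hqs, hqf, hqp, hqk⟩ :=
    GrpQuotLib.exists_quotientGrp_field (N j₀) G (n j₀) hnormal
  haveI := hqm
  haveI := hQl
  haveI := hQq
  haveI := hqs
  haveI := hqf
  haveI := hqp
  haveI := hQs
  haveI : ∀ j, LocallyOfFiniteType (D.obj j).hom := fun j => (hD j).1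
  haveI : ∀ j, QuasiCompact (D.obj j).hom := fun j => (hD j).2
  choose v hvm hv hvu using fun j => Groth.Agent.S3280.result k G (N j₀) Q (D.obj j) q (n j₀) hqk (f j)
    (by rw [hkill j, Hom.one_def])
  haveI := hvm
  let cQ : Cone D :=
    { pt := Q
      π :=
        { app := v
          naturality := fun j j' φ => by
            dsimp
            rw [Category.id_comp]
            exact (hvu j' _ (by rw [← Category.assoc, hv, hfn])).symm } }
  let V : Q ⟶ c.pt := hc.lift cQ
  have hV : ∀ j, V ≫ c.π.app j = v j := fun j => hc.fac cQ j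
  haveI : IsMonHom V := ⟨hc.hom_ext fun j => by
      rw [Category.assoc, hV, IsMonHom.one_hom (v j), IsMonHom.one_hom (c.π.app j)],
    hc.hom_ext fun j => by
      rw [Category.assoc, hV, IsMonHom.mul_hom (v j), Category.assoc, IsMonHom.mul_hom (c.π.app j),
        ← hV j, MonoidalCategory.tensorHom_comp_tensorHom_assoc]⟩
  have hqV : q ≫ V = u := hc.hom_ext fun j => by rw [Category.assoc, hV]; exact hv j
  have hqn : n j₀ ≫ q = 1 := by rw [hqk.w, Hom.one_def]
  haveI : Mono (v j₀) := mono_of_kernel q (v j₀) (n j₀) hqn (fun g hg => hlift j₀ g (by rw [← hv j₀]; exact hg))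
  haveI : IsSeparated (D.obj j₀).hom := GrpSchLib.isSeparated_hom
  haveI : QuasiCompact ((v j₀).left ≫ (D.obj j₀).hom) := by rw [Over.w (v j₀)]; infer_instance
  haveI : QuasiCompact (v j₀).left := QuasiCompact.of_comp (v j₀).left (D.obj j₀).hom
  haveI : IsClosedImmersion (v j₀).left := Groth.Agent.S3036.result k Q (D.obj j₀) (v j₀)
  haveI : IsSeparated c.pt.hom := GrpSchLib.isSeparated_hom
  haveI : IsSeparated ((c.π.app j₀).left ≫ (D.obj j₀).hom) := by rw [Over.w (c.π.app j₀)]; exact ‹IsSeparated c.pt.hom›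
  haveI : IsSeparated (c.π.app j₀).left := IsSeparated.of_comp (c.π.app j₀).left (D.obj j₀).hom
  haveI : IsClosedImmersion (V.left ≫ (c.π.app j₀).left) := by
    rw [← Over.comp_left, hV]; infer_instance
  haveI : IsClosedImmersion V.left := IsClosedImmersion.of_comp V.left (c.π.app j₀).left
  haveI : IsIso V.left := IsClosedImmersion.isIso_iff_ker_eq_bot.2 (by
    refine le_bot_iff.1 (hdom ▸ ?_)
    rw [← hqV, Over.comp_left]
    exact Scheme.Hom.le_ker_comp _ _)
  have hu : u.left = q.left ≫ V.left := by rw [← Over.comp_left, hqV]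
  have hhom : c.pt.hom = inv V.left ≫ Q.hom := by rw [IsIso.eq_inv_comp, Over.w V]
  refine ⟨by rw [hu]; infer_instance, by rw [hu]; infer_instance, by rw [hhom]; infer_instance,
    by rw [hhom]; infer_instance⟩

end Groth.Agent.LimDomLib
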